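import Cfsg.Agent.Spor.Cert
import Cfsg.Agent.Spor.An6.C0

set_option autoImplicit false
set_option maxRecDepth 100000000
set_option Elab.async false
set_option linter.unusedSectionVars false

namespace Cfsg.Agent.Spor.An6

theorem hT : T.Ok 9 := T.ok_of 9 (show AllP (fun n => Net.okb 9 n = true) [n0, n1, n2, n3] from AllP.cons ok0 (AllP.cons ok1 (AllP.cons ok2 (AllP.cons ok3 (AllP.nil)))))

noncomputable def fP : ℕ → Equiv.Perm ℕ := T.fP gs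

theorem hsq : ∀ j < 0, j < 4 → T.fP gs j * T.fP gs j = 1 :=
  Tab.sq (show AllP (fun z => evA T.τ [z, z] = 1) [] from AllP.nil) 4 rfl

theorem hiv : IvOk (2 * 0) (atm 4 (T.fP gs)) := ivOk_atm hsq

theorem pz1 : PZ T (atm 4 (T.fP gs)) EX 1 := PZ.of_atom (y := 2 * 0) (by decide +kernel) (atm_two_mul _ (by decide))
theorem pz2 : PZ T (atm 4 (T.fP gs)) EX 2 := PZ.of_atom (y := 2 * 1) (by decide +kernel) (atm_two_mul _ (by decide))
theorem pz3 : PZ T (atm 4 (T.fP gs)) EX 3 := PZ.of_atom (y := 2 * 2) (by decide +kernel) (atm_two_mul _ (by decide))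
theorem pz4 : PZ T (atm 4 (T.fP gs)) EX 4 := PZ.of_atom (y := 2 * 3) (by decide +kernel) (atm_two_mul _ (by decide))
theorem pz5 : PZ T (atm 4 (T.fP gs)) EX 5 := PZ.of_inv hiv pz1 (by decide +kernel)
theorem pz6 : PZ T (atm 4 (T.fP gs)) EX 6 := PZ.of_inv hiv pz2 (by decide +kernel)
theorem pz7 : PZ T (atm 4 (T.fP gs)) EX 7 := PZ.of_inv hiv pz3 (by decide +kernel)
theorem pz8 : PZ T (atm 4 (T.fP gs)) EX 8 := PZ.of_inv hiv pz4 (by decide +kernel)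
theorem hPZ : AllP (PZ T (atm 4 (T.fP gs)) EX) L :=
  show AllP (PZ T (atm 4 (T.fP gs)) EX) [1, 2, 3, 4, 5, 6, 7, 8] from AllP.cons pz1 (AllP.cons pz2 (AllP.cons pz3 (AllP.cons pz4 (AllP.cons pz5 (AllP.cons pz6 (AllP.cons pz7 (AllP.cons pz8 (AllP.nil))))))))

theorem hrel : ∀ l ∈ RL, ev (atm 4 (T.fP gs)) l = 1 :=
  relAll_sound hiv (W := [[1, 1, 1], [2, 2, 2], [3, 3, 3], [4, 4, 4], [2, 1, 2, 1], [3, 1, 3, 1], [4, 1, 4, 1], [3, 2, 3, 2], [4, 2, 4, 2], [4, 3, 4, 3]]) (rules := [⟨[1, 1, 1], [], 0, true⟩, ⟨[2, 2, 2], [], 1, true⟩, ⟨[3, 3, 3], [], 2, true⟩, ⟨[4, 4, 4], [], 3, true⟩, ⟨[2, 1, 2, 1], [], 4, true⟩, ⟨[3, 1, 3, 1], [], 5, true⟩, ⟨[4, 1, 4, 1], [], 6, true⟩, ⟨[3, 2, 3, 2], [], 7, true⟩, ⟨[4, 2, 4, 2], [], 8, true⟩, ⟨[4, 3, 4, 3], [], 9, true⟩]) hPZ (AllP.cons (hT.one rel0) (AllP.cons (hT.one rel1) (AllP.cons (hT.one rel2) (AllP.cons (hT.one rel3) (AllP.cons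 (hT.one rel4) (AllP.cons (hT.one rel5) (AllP.cons (hT.one rel6) (AllP.cons (hT.one rel7) (AllP.cons (hT.one rel8) (AllP.cons (hT.one rel9) (AllP.nil))))))))))) (by decide +kernel)

section
variable {G : Type} [Group G] {a : ℕ → G} (hi : IvOk (2 * 0) a) (hR : ∀ r ∈ RL, ev a r = 1)
  {H : Subgroup G} (hb : ∀ z ∈ base, letV a EX z ∈ H)
include hi hR hb

theorem let1 : LetOk H (letV a EX) T L 1 :=
  LetOk.of hT tl1 cov1 (AllP.cons (Just.rot hT hi hR rot1_1 rot1_1r) (AllP.cons (Just.rot hT hi hR rot1_2 rot1_2r) (AllP.cons (Just.rot hT hi hR rot1_3 rot1_3r) (AllP.cons (Just.rot hT hi hR rot1_4 rot1_4r) (AllP.cons (Just.rot hT hi hR rot1_5 rot1_5r) (AllP.nil))))))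
theorem let2 : LetOk H (letV a EX) T L 2 :=
  LetOk.of hT tl2 cov2 (AllP.cons (Just.rot hT hi hR rot2_1 rot2_1r) (AllP.cons (Just.rot hT hi hR rot2_2 rot2_2r) (AllP.cons (Just.rot hT hi hR rot2_3 rot2_3r) (AllP.cons (Just.rot hT hi hR rot2_4 rot2_4r) (AllP.cons (Just.rot hT hi hR rot2_5 rot2_5r) (AllP.nil))))))
theorem let3 : LetOk H (letV a EX) T L 3 :=
  LetOk.of hT tl3 cov3 (AllP.cons (Just.rot hT hi hR rot3_1 rot3_1r) (AllP.cons (Just.rot hT hi hR rot3_2 rot3_2r) (AllP.cons (Just.rot hT hi hR rot3_3 rot3_3r) (AllP.cons (Just.rot hT hi hR rot3_4 rot3_4r) (AllP.cons (Just.rot hT hi hR rot3_5 rot3_5r) (AllP.nil))))))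
theorem let4 : LetOk H (letV a EX) T L 4 :=
  LetOk.of hT tl4 cov4 (AllP.cons (Just.rot hT hi hR rot4_1 rot4_1r) (AllP.cons (Just.rot hT hi hR rot4_2 rot4_2r) (AllP.cons (Just.rot hT hi hR rot4_3 rot4_3r) (AllP.cons (Just.rot hT hi hR rot4_4 rot4_4r) (AllP.cons (Just.rot hT hi hR rot4_5 rot4_5r) (AllP.nil))))))
theorem let5 : LetOk H (letV a EX) T L 5 :=
  LetOk.of hT tl5 cov5 (AllP.cons (Just.rot hT hi hR rot5_1 rot5_1r) (AllP.cons (Just.rot hT hi hR rot5_2 rot5_2r) (AllP.cons (Just.rot hT hi hR rot5_3 rot5_3r) (AllP.cons (Just.rot hT hi hR rot5_4 rot5_4r) (AllP.cons (Just.rot hT hi hR rot5_5 rot5_5r) (AllP.nil))))))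
theorem let6 : LetOk H (letV a EX) T L 6 :=
  LetOk.of hT tl6 cov6 (AllP.cons (Just.rot hT hi hR rot6_1 rot6_1r) (AllP.cons (Just.rot hT hi hR rot6_2 rot6_2r) (AllP.cons (Just.rot hT hi hR rot6_3 rot6_3r) (AllP.cons (Just.rot hT hi hR rot6_4 rot6_4r) (AllP.cons (Just.rot hT hi hR rot6_5 rot6_5r) (AllP.nil))))))
theorem let7 : LetOk H (letV a EX) T L 7 :=
  LetOk.of hT tl7 cov7 (AllP.cons (Just.rot hT hi hR rot7_1 rot7_1r) (AllP.cons (Just.rot hT hi hR rot7_2 rot7_2r) (AllP.cons (Just.rot hT hi hR rot7_3 rot7_3r) (AllP.cons (Just.rot hT hi hR rot7_4 rot7_4r) (AllP.cons (Just.rot hT hi hR rot7_5 rot7_5r) (AllP.nil))))))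
theorem let8 : LetOk H (letV a EX) T L 8 :=
  LetOk.of hT tl8 cov8 (AllP.cons (Just.rot hT hi hR rot8_1 rot8_1r) (AllP.cons (Just.rot hT hi hR rot8_2 rot8_2r) (AllP.cons (Just.rot hT hi hR rot8_3 rot8_3r) (AllP.cons (Just.rot hT hi hR rot8_4 rot8_4r) (AllP.cons (Just.rot hT hi hR rot8_5 rot8_5r) (AllP.nil))))))
theorem hlet : AllP (LetOk H (letV a EX) T L) L :=
  show AllP (LetOk H (letV a EX) T L) [1, 2, 3, 4, 5, 6, 7, 8] from AllP.cons (let1 hi hR hb) (AllP.cons (let2 hi hR hb) (AllP.cons (let3 hi hR hb) (AllP.cons (let4 hi hR hb) (AllP.cons (let5 hi hR hb) (AllP.cons (let6 hi hR hb) (AllP.cons (let7 hi hR hb) (AllP.cons (let8 hi hR hb) (AllP.nil))))))))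
end

theorem cert : Cert 4 0 RL BW fP 360 :=
  Cert.of hT ⟨hsq, hrel⟩ hPZ (fun _ _ _ hi hR _ hb => hlet hi hR hb) hcov hg (by decide +kernel)

end Cfsg.Agent.Spor.An6
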